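import Mathlib
import Cfsg.Agent.Lib.Helper50.CAI.Defs
import Cfsg.Agent.S1225

set_option autoImplicit false

/-!
Project CAI (helper50, S2202): package [BLOCK].

Two different Sylow 2-subgroups with the same odd part `B0` force `B0` to be normal: otherwise
`X = N_G(B0)` is strongly embedded, and the quotient `X / B0` contradicts [NOHALL].
-/

namespace Cfsg.Agent.Lib.Helper72.CAI

open Cfsg.Agent.Lib.Helper50.CAI

universe u

section

variable {G : Type u} [Group G]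

theorem mem_smul_sylow {g x : G} {P : Sylow 2 G} :
    x ∈ ((g • P : Sylow 2 G) : Subgroup G) ↔ g⁻¹ * x * g ∈ (P : Subgroup G) := by
  rw [Sylow.coe_subgroup_smul, Subgroup.mem_pointwise_smul_iff_inv_smul_mem]
  simp [MulAut.smul_def]

theorem mem_norm_of_Bz_eq (hB : ∀ R : Sylow 2 G, BasicFacts R) {R : Sylow 2 G} {g : G}
    {B0 : Subgroup G} (h1 : Bz R = B0) (h2 : Bz (g • R) = B0) :
    g ∈ Subgroup.normalizer (B0 : Set G) := by
  rw [Subgroup.mem_normalizer_iff]
  intro h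
  have h3 := (hB R).conjB g (g * h * g⁻¹)
  rw [h2, h1] at h3
  rw [h3]
  have e : g⁻¹ * (g * h * g⁻¹) * g = h := by group
  rw [e]

theorem Bz_smul_of_mem_norm (hB : ∀ R : Sylow 2 G, BasicFacts R) {R : Sylow 2 G} {g : G}
    {B0 : Subgroup G} (h1 : Bz R = B0) (hg : g ∈ Subgroup.normalizer (B0 : Set G)) :
    Bz (g • R) = B0 := by
  ext x
  rw [(hB R).conjB g x, h1]
  have h3 := (Subgroup.mem_normalizer_iff.mp hg) (g⁻¹ * x * g)
  rw [h3]
  have e : g * (g⁻¹ * x * g) * g⁻¹ = x := by group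
  rw [e]

end

theorem pkgBlock (hB : PkgBasic.{u}) (hSub : PkgSub.{u}) (hQuot : PkgQuot.{u}) (hZ : PkgZ.{u})
    (hNH : PkgNoHall.{u}) : PkgBlock.{u} := by
  intro G _ _ hyp P Q hPQ hBz hX
  have hBF : ∀ R : Sylow 2 G, BasicFacts R := fun R => hB hyp R
  obtain ⟨B0, hB0⟩ : ∃ B0 : Subgroup G, B0 = Bz P := ⟨_, rfl⟩
  rw [← hB0] at hX
  have hBP : Bz P = B0 := hB0.symm
  have hBQ : Bz Q = B0 := by rw [← hBz, hBP]
  obtain ⟨X, hXdef⟩ : ∃ X : Subgroup G, X = Subgroup.normalizer (B0 : Set G) := ⟨_, rfl⟩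
  rw [← hXdef] at hX
  -- a Sylow `R` with `Bz R = B0` lies in `X`
  have hRX : ∀ R : Sylow 2 G, Bz R = B0 → (R : Subgroup G) ≤ X := by
    intro R hR g hg
    rw [hXdef]
    apply mem_norm_of_Bz_eq hBF hR
    have hgR : g • R = R := Sylow.smul_eq_iff_mem_normalizer.mpr (Subgroup.le_normalizer hg)
    rw [hgR, hR]
  have hPX := hRX P hBP
  have hQX := hRX Q hBQ
  obtain ⟨hypX, hsub1, hsub2⟩ := hSub hyp X P Q hPQ hPX hQX
  -- the Sylow subgroups of `X`
  have h4 : ∀ R' : Sylow 2 ↥X, ∃ R : Sylow 2 G, Bz R = B0 ∧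
      (R' : Subgroup ↥X).map X.subtype = (R : Subgroup G) ∧ Bz R' = B0.subgroupOf X := by
    intro R'
    obtain ⟨P', hP'1, hP'2⟩ := hsub1 P hPX
    obtain ⟨x, hx⟩ := MulAction.exists_smul_eq ↥X P' R'
    obtain ⟨R, hRX', hR1, hR2⟩ := hsub2 R'
    have hRP : R = (x : G) • P := by
      apply Sylow.ext
      ext y
      rw [mem_smul_sylow, ← hR1, ← hP'1, ← hx]
      constructor
      · rintro ⟨y', hy', rfl⟩
        exact ⟨x⁻¹ * y' * x, mem_smul_sylow.mp hy', by simp⟩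
      · rintro ⟨z, hz, hz'⟩
        refine ⟨x * z * x⁻¹, mem_smul_sylow.mpr ?_, ?_⟩
        · have e : x⁻¹ * (x * z * x⁻¹) * x = z := by group
          rw [e]
          exact hz
        · have hz'' : (z : G) = (x : G)⁻¹ * y * (x : G) := hz'
          show (x : G) * (z : G) * (x : G)⁻¹ = y
          rw [hz'']
          group
    have hBR : Bz R = B0 := by
      rw [hRP]
      exact Bz_smul_of_mem_norm hBF hBP (by rw [← hXdef]; exact x.2)
    refine ⟨R, hBR, hR1, ?_⟩
    apply Subgroup.map_injective X.subtype_injective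
    rw [hR2, hBR, Subgroup.subgroupOf_map_subtype]
  -- involutions of `X`
  have hinvX : ∀ t : G, t ∈ X → orderOf t = 2 →
      ∃ R : Sylow 2 G, Bz R = B0 ∧ t ∈ (R : Subgroup G) := by
    intro t htX ht
    have hpg : IsPGroup 2 ↥(Subgroup.zpowers (⟨t, htX⟩ : ↥X)) := by
      apply IsPGroup.of_card (n := 1)
      rw [Nat.card_zpowers, pow_one, ← Subgroup.orderOf_coe]
      exact ht
    obtain ⟨R', hR'⟩ := hpg.exists_le_sylow
    obtain ⟨R, hR, hR1, -⟩ := h4 R'
    refine ⟨R, hR, ?_⟩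
    rw [← hR1]
    exact ⟨⟨t, htX⟩, hR' (Subgroup.mem_zpowers _), rfl⟩
  have hinv : ∀ R : Sylow 2 G, ∃ t : G, t ∈ (R : Subgroup G) ∧ orderOf t = 2 := by
    intro R
    have h3 := (hBF R).three
    have hne : Nonempty {t : G // t ∈ (R : Subgroup G) ∧ orderOf t = 2} := by
      by_contra hne
      rw [not_nonempty_iff] at hne
      have h0 : mInv R = 0 := Nat.card_of_isEmpty
      omega
    obtain ⟨t, ht⟩ := hne
    exact ⟨t, ht⟩
  -- `X` is strongly embedded
  have hSE : Cfsg.IsStronglyEmbedded X := by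
    refine ⟨hX, ?_, ?_⟩
    · obtain ⟨t, htP, ht⟩ := hinv P
      have h1 : orderOf (⟨t, hPX htP⟩ : ↥X) ∣ Nat.card ↥X := orderOf_dvd_natCard _
      rw [← Subgroup.orderOf_coe] at h1
      have h2 : orderOf t ∣ Nat.card ↥X := h1
      rw [ht] at h2
      exact even_iff_two_dvd.mpr h2
    · intro g hg
      by_contra hodd
      rw [Nat.not_odd_iff_even] at hodd
      obtain ⟨t, ht⟩ := exists_prime_orderOf_dvd_card' 2 (even_iff_two_dvd.mp hodd)
      rw [← Subgroup.orderOf_coe] at ht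
      obtain ⟨htX, t', ht'X, ht'⟩ := t.2
      have ht'' : g * t' * g⁻¹ = (t : G) := ht'
      have hot' : orderOf t' = 2 := by
        rw [← ht, ← ht'']
        exact ((MulAut.conj g).orderOf_eq t').symm
      obtain ⟨R1, hR1, htR1⟩ := hinvX (t : G) htX ht
      obtain ⟨R2, hR2, htR2⟩ := hinvX t' ht'X hot'
      have hmem : (t : G) ∈ ((g • R2 : Sylow 2 G) : Subgroup G) := by
        rw [mem_smul_sylow, ← ht'']
        have e : g⁻¹ * (g * t' * g⁻¹) * g = t' := by group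
        rw [e]
        exact htR2
      have heq : g • R2 = R1 := by
        by_contra hne
        have h1 := (hBF R1).ti (g • R2) hne (t : G) htR1 hmem
        rw [h1, orderOf_one] at ht
        omega
      apply hg
      rw [hXdef]
      exact mem_norm_of_Bz_eq hBF hR2 (by rw [heq, hR1])
  -- an involution outside `X`
  obtain ⟨u, hu, huX⟩ : ∃ u : G, orderOf u = 2 ∧ u ∉ X := by
    obtain ⟨g, hg⟩ : ∃ g : G, g ∉ X := by
      by_contra h
      push Not at h
      exact hX (eq_top_iff.mpr fun x _ => h x)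
    obtain ⟨u, huP, hu⟩ := hinv (g • P)
    refine ⟨u, hu, fun huX => hg ?_⟩
    obtain ⟨R, hR, huR⟩ := hinvX u huX hu
    have heq : g • P = R := by
      by_contra hne
      have h1 := (hBF R).ti (g • P) hne u huR huP
      rw [h1, orderOf_one] at hu
      omega
    rw [hXdef]
    exact mem_norm_of_Bz_eq hBF hBP (by rw [heq, hR])
  -- the quotient `X / B0`
  have hNn : (B0.subgroupOf X).Normal := by
    subst hXdef
    exact Subgroup.normal_in_normalizer
  obtain ⟨hypΓ, -, -, hq2, hq3⟩ := hQuot hypX (B0.subgroupOf X) (fun P' => by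
    obtain ⟨R, -, -, h⟩ := h4 P'
    rw [h])
  have hBzΓ : ∀ P'' : Sylow 2 (↥X ⧸ B0.subgroupOf X), Bz P'' = ⊥ := by
    intro P''
    obtain ⟨P', hP'⟩ := hq2 P''
    obtain ⟨R, -, -, h⟩ := h4 P'
    rw [hP', h, QuotientGroup.map_mk'_self]
  have hBTI : BTI (↥X ⧸ B0.subgroupOf X) := by
    intro P1 P2 _ x hx _
    rw [hBzΓ P1] at hx
    exact Subgroup.mem_bot.mp hx
  have hZF := hZ hypΓ hBTI
  refine hNH hypΓ hBzΓ hZF (((X ⊓ X.map (MulAut.conj u).toMonoidHom).subgroupOf X).map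
    (QuotientGroup.mk' (B0.subgroupOf X))) ?_ ?_
  · have hD := hSE.2.2 u huX
    have h1 := Subgroup.card_map_dvd ((X ⊓ X.map (MulAut.conj u).toMonoidHom).subgroupOf X)
      (QuotientGroup.mk' (B0.subgroupOf X))
    have h2 : Nat.card ↥((X ⊓ X.map (MulAut.conj u).toMonoidHom).subgroupOf X)
        = Nat.card ↥(X ⊓ X.map (MulAut.conj u).toMonoidHom) :=
      Nat.card_congr (Subgroup.subgroupOfEquivOfLe inf_le_left).toEquiv
    rw [h2] at h1
    exact hD.of_dvd_nat h1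
  · intro s' t' hs' ht'
    obtain ⟨s, hs, rfl⟩ := hq3 s' hs'
    obtain ⟨t, ht, rfl⟩ := hq3 t' ht'
    obtain ⟨d, hd, hdst⟩ := (Cfsg.Agent.S1225.result X hSE u hu huX (s : G) (t : G)
      (by rw [Subgroup.orderOf_coe]; exact hs) s.2
      (by rw [Subgroup.orderOf_coe]; exact ht) t.2).1
    refine ⟨QuotientGroup.mk' _ ⟨d, hd.1⟩, ⟨⟨d, hd.1⟩, ?_, rfl⟩, ?_⟩
    · exact Subgroup.mem_subgroupOf.mpr hd
    · rw [← map_inv, ← map_mul, ← map_mul]
      congr 1
      exact Subtype.ext hdst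

end Cfsg.Agent.Lib.Helper72.CAI
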